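import Cfsg.Agent.Lib.Comp.M23x.Base

set_option maxRecDepth 100000
set_option Elab.async false

namespace Cfsg.Lib.Comp.M23x

universe u

noncomputable def T3_R : List (List ℕ × ℕ) := [([3],1),
 ([4],1),
 ([1],2),
 ([3,4],1),
 ([1,3],2),
 ([1,4],2),
 ([1,4,2,3],1),
 ([5],1),
 ([3,5],2),
 ([1,4,5],1),
 ([1,5],3),
 ([4,5],3),
 ([3,4,5],2),
 ([1,3,1,5],2),
 ([1,2],0)]

noncomputable def T3_n_1 : Net :=
 (Net.cons 10 (nat_lit 0x312)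
 (Net.cons 5 (nat_lit 0x4008)
 (Net.cons 1 (nat_lit 0x21004)
 (Net.cons 1 (nat_lit 0x4084a)
 (Net.cons 1 (nat_lit 0x204a4)
 (Net.cons 1 (nat_lit 0x1014a)
 (Net.cons 1 (nat_lit 0x8000)
 (Net.cons 5 (nat_lit 0x406)
 (Net.cons 10 (nat_lit 0x1a4)
 Net.nil)))))))))

noncomputable def T3_n_3 : Net :=
 (Net.cons 10 (nat_lit 0x300)
 (Net.cons 5 (nat_lit 0x1004)
 (Net.cons 1 (nat_lit 0x9024)
 (Net.cons 1 (nat_lit 0x1094a)
 (Net.cons 1 (nat_lit 0x20424)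
 (Net.cons 1 (nat_lit 0xa)
 (Net.cons 5 (nat_lit 0x2c04)
 (Net.cons 10 (nat_lit 0x300)
 Net.nil))))))))

noncomputable def T3_n_4 : Net :=
 (Net.cons 5 (nat_lit 0x4010)
 (Net.cons 1 (nat_lit 0x21020)
 (Net.cons 1 (nat_lit 0x12942)
 (Net.cons 1 (nat_lit 0x21080)
 (Net.cons 1 (nat_lit 0x140)
 (Net.cons 1 (nat_lit 0x20)
 (Net.cons 5 (nat_lit 0x6c18)
 (Net.cons 10 (nat_lit 0x80)
 Net.nil))))))))

noncomputable def T3_n_5 : Net :=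
 (Net.cons 10 (nat_lit 0x10)
 (Net.cons 5 (nat_lit 0x5004)
 (Net.cons 1 (nat_lit 0x29001)
 (Net.cons 1 (nat_lit 0x12948)
 (Net.cons 1 (nat_lit 0x29400)
 (Net.cons 1 (nat_lit 0x12800)
 (Net.cons 1 (nat_lit 0x1000)
 (Net.cons 5 (nat_lit 0x741c)
 (Net.cons 10 (nat_lit 0x10)
 Net.nil)))))))))

noncomputable def T3_n : List Net := [Net.nil,
 T3_n_1,
 Net.rev T3_n_1,
 T3_n_3,
 T3_n_4,
 T3_n_5]

theorem T3_n_ok : NetsOK 20 T3_n := netsOK_of (by decide +kernel)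

theorem T3_n_rel : Rels (gp T3_n) T3_R := rels_of_relsB (k := 5) T3_n_ok (by norm_num) (by decide +kernel)

theorem T3_fin : finB 20 T3_n [1,2,3,4,5] 20 (runH 20 T3_n (fun x p => ptInv (nth Net.nil T3_n x) p) iv T3_R [] ([1,2,3,4].map fun x => [x]) 0 []
  [1,5,9,13,0,4,12,28,32,56,8,16,36,40,52,56,0,4,12,20,24,28,36,44,48,52,56,4,16,20,24,28,32,36,44,48,56]
  (defsH 20 T3_n (ones 180) [5,1,2,3,4,5,1,2] (Nat.shiftLeft 1 0) 0)) = true := by decide +kernel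

theorem T3_idx : Idx.{u} iv (T3_R ++ []) ([1,2,3,4].map fun x => [x]) [1,2,3,4,5] 20 :=
  Reach.idx T3_n_ok (reach_runH T3_n_ok (fun x p _ => ptInv_gp T3_n_ok x p) T3_n_rel (reach_defsH T3_n_ok _ _ _ _ _ _) _ _) T3_fin (by norm_num)

end Cfsg.Lib.Comp.M23x
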