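import Cfsg.Agent.Lib.Comp.Fast

set_option maxRecDepth 100000
set_option Elab.async false

namespace Cfsg.Lib.Comp.M23x

universe u

def iv : ℕ → ℕ := (fun x => look (nat_lit 0xffef7cefae78df6d74cf2c70beeb6caeaa689e69648e28607de75c6da6585d65544d24503ce34c2ca2481c61440c1080) 6 x)

noncomputable def R : List (List ℕ × ℕ) := [([3],1),
 ([4],1),
 ([1],2),
 ([3,4],1),
 ([1,3],2),
 ([1,4],2),
 ([1,4,2,3],1),
 ([5],1),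
 ([3,5],2),
 ([1,4,5],1),
 ([1,5],3),
 ([4,5],3),
 ([3,4,5],2),
 ([1,3,1,5],2),
 ([6],1),
 ([3,6],1),
 ([1,6],2),
 ([5,6],2),
 ([4,6],3),
 ([1,5,6,2,5],1),
 ([7],1),
 ([3,7],1),
 ([4,7],1),
 ([5,7],1),
 ([6,7],2),
 ([1,7],3),
 ([1,7,6,4,6,7,2,3],0),
 ([8],1),
 ([6,8],1),
 ([7,8],1),
 ([1,8],2),
 ([3,8],2),
 ([4,8],2),
 ([5,8],2),
 ([3,4,5,8,5,4,5,8,5],0),
 ([1,2],0)]

def L : List ℕ := [1,2,3,4,5,6,7,8]

end Cfsg.Lib.Comp.M23x
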