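import Cfsg.Agent.Lib.Comp.M23x.Base

set_option maxRecDepth 100000
set_option Elab.async false

namespace Cfsg.Lib.Comp.M23x

universe u

noncomputable def MuH1_1_R : List (List ℕ × ℕ) := [([3],1),
 ([4],1),
 ([3,4],1),
 ([5],1),
 ([3,5],2),
 ([4,5],3),
 ([3,4,5],2),
 ([8],1),
 ([3,8],2),
 ([4,8],2),
 ([5,8],2),
 ([3,4,5,8,5,4,5,8,5],0)]

noncomputable def MuH1_1_n_3 : Net :=
 (Net.cons 4 (nat_lit 0x8)
 (Net.cons 2 (nat_lit 0x2)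
 (Net.cons 1 (nat_lit 0x4)
 (Net.cons 2 (nat_lit 0x22)
 (Net.cons 4 (nat_lit 0x8)
 Net.nil)))))

noncomputable def MuH1_1_n_4 : Net :=
 (Net.cons 4 (nat_lit 0x4)
 (Net.cons 2 (nat_lit 0x20)
 (Net.cons 1 (nat_lit 0x40)
 (Net.cons 2 (nat_lit 0x22)
 (Net.cons 4 (nat_lit 0x4)
 Net.nil)))))

noncomputable def MuH1_1_n_5 : Net :=
 (Net.cons 4 (nat_lit 0xa)
 (Net.cons 1 (nat_lit 0x50)
 (Net.cons 4 (nat_lit 0xa)
 Net.nil)))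

noncomputable def MuH1_1_n_8 : Net :=
 (Net.cons 2 (nat_lit 0x20)
 (Net.cons 1 (nat_lit 0x41)
 (Net.cons 2 (nat_lit 0x20)
 Net.nil)))

noncomputable def MuH1_1_n : List Net := [Net.nil,
 Net.nil,
 Net.nil,
 MuH1_1_n_3,
 MuH1_1_n_4,
 MuH1_1_n_5,
 Net.nil,
 Net.nil,
 MuH1_1_n_8]

theorem MuH1_1_n_ok : NetsOK 8 MuH1_1_n := netsOK_of (by decide +kernel)

theorem MuH1_1_n_rel : Rels (gp MuH1_1_n) MuH1_1_R := rels_of_relsB (k := 3) MuH1_1_n_ok (by norm_num) (by decide +kernel)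

theorem MuH1_1_fin : finB 8 MuH1_1_n [3,4,5,8] 7 (runH 8 MuH1_1_n (fun x p => ptInv (nth Net.nil MuH1_1_n x) p) iv MuH1_1_R [] ([3,4,5].map fun x => [x]) 0 []
  [1,5,9,0,4,8,12,28,32,36,40,44,20,44,16,44]
  (defsH 8 MuH1_1_n (ones 72) [8,3,4,5] (Nat.shiftLeft 1 0) 0)) = true := by decide +kernel

theorem MuH1_1_idx : Idx.{u} iv (MuH1_1_R ++ []) ([3,4,5].map fun x => [x]) [3,4,5,8] 7 :=
  Reach.idx MuH1_1_n_ok (reach_runH MuH1_1_n_ok (fun x p _ => ptInv_gp MuH1_1_n_ok x p) MuH1_1_n_rel (reach_defsH MuH1_1_n_ok _ _ _ _ _ _) _ _) MuH1_1_fin (by norm_num)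

end Cfsg.Lib.Comp.M23x
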