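import Cfsg.Agent.Lib.Comp.M23x.Base

set_option maxRecDepth 100000
set_option Elab.async false

namespace Cfsg.Lib.Comp.M23x

universe u

noncomputable def MuH1_3_R : List (List ℕ × ℕ) := [([4],1),
 ([5],1),
 ([4,5],3)]

noncomputable def MuH1_3_n_4 : Net :=
 (Net.cons 2 (nat_lit 0x2)
 (Net.cons 1 (nat_lit 0x4)
 (Net.cons 2 (nat_lit 0x2)
 Net.nil)))

noncomputable def MuH1_3_n_5 : Net :=
 (Net.cons 1 (nat_lit 0x5)
 Net.nil)

noncomputable def MuH1_3_n : List Net := [Net.nil,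
 Net.nil,
 Net.nil,
 Net.nil,
 MuH1_3_n_4,
 MuH1_3_n_5]

theorem MuH1_3_n_ok : NetsOK 4 MuH1_3_n := netsOK_of (by decide +kernel)

theorem MuH1_3_n_rel : Rels (gp MuH1_3_n) MuH1_3_R := rels_of_relsB (k := 2) MuH1_3_n_ok (by norm_num) (by decide +kernel)

theorem MuH1_3_fin : finB 4 MuH1_3_n [4,5] 4 (runH 4 MuH1_3_n (fun x p => ptInv (nth Net.nil MuH1_3_n x) p) iv MuH1_3_R [] ([4].map fun x => [x]) 0 []
  [1,0,4,8]
  (defsH 4 MuH1_3_n (ones 36) [5,4,5] (Nat.shiftLeft 1 0) 0)) = true := by decide +kernel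

theorem MuH1_3_idx : Idx.{u} iv (MuH1_3_R ++ []) ([4].map fun x => [x]) [4,5] 4 :=
  Reach.idx MuH1_3_n_ok (reach_runH MuH1_3_n_ok (fun x p _ => ptInv_gp MuH1_3_n_ok x p) MuH1_3_n_rel (reach_defsH MuH1_3_n_ok _ _ _ _ _ _) _ _) MuH1_3_fin (by norm_num)

end Cfsg.Lib.Comp.M23x
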