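import Cfsg.Agent.Lib.Comp.M23x.MuH0_0
import Cfsg.Agent.Lib.Comp.M23x.MuH0_1
import Cfsg.Agent.Lib.Comp.M23x.MuH0_2
import Cfsg.Agent.Lib.Comp.M23x.MuH1_0
import Cfsg.Agent.Lib.Comp.M23x.MuH1_1
import Cfsg.Agent.Lib.Comp.M23x.MuH1_2
import Cfsg.Agent.Lib.Comp.M23x.MuH1_3
import Cfsg.Agent.Lib.Comp.M23x.MuH1_4
import Cfsg.Agent.Lib.Comp.M23x.Mu0
import Cfsg.Agent.Lib.Comp.M23x.Main
import Cfsg.Agent.Lib.Comp.Cover

set_option maxRecDepth 100000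
set_option Elab.async false

namespace Cfsg.Lib.Comp.M23x

universe u

theorem MuH0_2_ord : Ord.{u} iv MuH0_2_R [1,2] 3 :=
  (MuH0_2_idx.ord_base).of_cons (cons_of_subset (by decide +kernel))

theorem MuH0_1_ord : Ord.{u} iv MuH0_1_R [1,2,3] 12 :=
  (MuH0_1_idx.ord_step MuH0_2_ord).of_cons (cons_of_subset (by decide +kernel))

theorem MuH0_0_ord : Ord.{u} iv MuH0_0_R [1,2,3,4] 48 :=
  (MuH0_0_idx.ord_step MuH0_1_ord).of_cons (cons_of_subset (by decide +kernel))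

noncomputable def MuH0_lb_n_1 : Net :=
 (Net.cons 8 (nat_lit 0xce)
 (Net.cons 4 (nat_lit 0xe02)
 (Net.cons 2 (nat_lit 0x2)
 (Net.cons 1 (nat_lit 0x1451)
 (Net.cons 2 (nat_lit 0x1020)
 (Net.cons 4 (nat_lit 0xd0c)
 (Net.cons 8 (nat_lit 0x1d)
 Net.nil)))))))

noncomputable def MuH0_lb_n_3 : Net :=
 (Net.cons 8 (nat_lit 0xd0)
 (Net.cons 4 (nat_lit 0x400)
 (Net.cons 2 (nat_lit 0x200)
 (Net.cons 1 (nat_lit 0x410)
 (Net.cons 2 (nat_lit 0x2312)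
 (Net.cons 4 (nat_lit 0xf0b)
 (Net.cons 8 (nat_lit 0x2f)
 Net.nil)))))))

noncomputable def MuH0_lb_n_4 : Net :=
 (Net.cons 8 (nat_lit 0xc2)
 (Net.cons 4 (nat_lit 0xa00)
 (Net.cons 2 (nat_lit 0x2020)
 (Net.cons 1 (nat_lit 0x4515)
 (Net.cons 2 (nat_lit 0x1112)
 (Net.cons 4 (nat_lit 0xa)
 (Net.cons 8 (nat_lit 0x3d)
 Net.nil)))))))

noncomputable def MuH0_lb_n_64 : Net :=
 (Net.cons 8 (nat_lit 0xc0)
 (Net.cons 4 (nat_lit 0x600)
 (Net.cons 2 (nat_lit 0x2020)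
 (Net.cons 1 (nat_lit 0x4544)
 (Net.cons 2 (nat_lit 0x1312)
 (Net.cons 4 (nat_lit 0xf00)
 (Net.cons 8 (nat_lit 0xa0)
 Net.nil)))))))

noncomputable def MuH0_lb_n : List Net := (apd [Net.nil,
 MuH0_lb_n_1,
 Net.rev MuH0_lb_n_1,
 MuH0_lb_n_3,
 MuH0_lb_n_4,
 Net.nil,
 Net.nil,
 Net.nil,
 Net.nil,
 Net.nil,
 Net.nil,
 Net.nil,
 Net.nil,
 Net.nil,
 Net.nil,
 Net.nil,
 Net.nil,
 Net.nil,
 Net.nil,
 Net.nil,
 Net.nil,
 Net.nil,
 Net.nil,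
 Net.nil,
 Net.nil,
 Net.nil,
 Net.nil,
 Net.nil,
 Net.nil,
 Net.nil,
 Net.nil,
 Net.nil,
 Net.nil,
 Net.nil,
 Net.nil,
 Net.nil,
 Net.nil,
 Net.nil,
 Net.nil,
 Net.nil]
 [Net.nil,
 Net.nil,
 Net.nil,
 Net.nil,
 Net.nil,
 Net.nil,
 Net.nil,
 Net.nil,
 Net.nil,
 Net.nil,
 Net.nil,
 Net.nil,
 Net.nil,
 Net.nil,
 Net.nil,
 Net.nil,
 Net.nil,
 Net.nil,
 Net.nil,
 Net.nil,
 Net.nil,
 Net.nil,
 Net.nil,
 Net.nil,
 MuH0_lb_n_64,
 Net.rev MuH0_lb_n_64])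

theorem MuH0_lb_n_ok : NetsOK 16 MuH0_lb_n := netsOK_of (by decide +kernel)

theorem MuH0_lb : 48 ≤ Nat.card (cl (gp nets) [1,2,3,4]) :=
  lb_of_itwB (k := 4) (n := 16) nets_ok MuH0_lb_n_ok (by norm_num) (by norm_num) (tbA_pt nets_ok) (tbA_pt MuH0_lb_n_ok) (φ := look2 (nat_lit 0x90000a00008000070000500006000120001300011000100000f0000e0000c0000d0000b00004) 20 64) (by decide +kernel) (by
    rw [← cl_eq_of_slpB (k := 4) (D := [(64,[1,4,3]),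
 (65,[3,4,2])]) MuH0_lb_n_ok (by norm_num) (by decide +kernel)]
    exact lb_of_chainB MuH0_lb_n_ok (C := [([64,65],[1,3,4,1,1],0,0,16),
 ([],[64,64],1,1,3)]) (by decide +kernel))

theorem MuH1_4_ord : Ord.{u} iv MuH1_4_R [4] 2 :=
  (MuH1_4_idx.ord_base).of_cons (cons_of_subset (by decide +kernel))

theorem MuH1_3_ord : Ord.{u} iv MuH1_3_R [4,5] 8 :=
  (MuH1_3_idx.ord_step MuH1_4_ord).of_cons (cons_of_subset (by decide +kernel))

theorem MuH1_2_ord : Ord.{u} iv MuH1_2_R [3,4,5] 24 :=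
  (MuH1_2_idx.ord_step MuH1_3_ord).of_cons (cons_of_subset (by decide +kernel))

theorem MuH1_1_ord : Ord.{u} iv MuH1_1_R [3,4,5,8] 168 :=
  (MuH1_1_idx.ord_step MuH1_2_ord).of_cons (cons_of_subset (by decide +kernel))

theorem MuH1_0_ord : Ord.{u} iv MuH1_0_R [3,4,5,7,8] 336 :=
  (MuH1_0_idx.ord_step MuH1_1_ord).of_cons (cons_of_subset (by decide +kernel))

noncomputable def MuH1_lb_n_3 : Net :=
 (Net.cons 8 (nat_lit 0x5c)
 (Net.cons 4 (nat_lit 0x4)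
 (Net.cons 1 (nat_lit 0x500)
 (Net.cons 2 (nat_lit 0x1310)
 (Net.cons 4 (nat_lit 0xe)
 (Net.cons 8 (nat_lit 0x5c)
 Net.nil))))))

noncomputable def MuH1_lb_n_4 : Net :=
 (Net.cons 8 (nat_lit 0x88)
 (Net.cons 4 (nat_lit 0x80e)
 (Net.cons 2 (nat_lit 0x2002)
 (Net.cons 1 (nat_lit 0x1054)
 (Net.cons 2 (nat_lit 0x2302)
 (Net.cons 4 (nat_lit 0x80e)
 (Net.cons 8 (nat_lit 0x88)
 Net.nil)))))))

noncomputable def MuH1_lb_n_5 : Net :=
 (Net.cons 8 (nat_lit 0x18)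
 (Net.cons 4 (nat_lit 0x8)
 (Net.cons 2 (nat_lit 0x20)
 (Net.cons 1 (nat_lit 0x1515)
 (Net.cons 2 (nat_lit 0x320)
 (Net.cons 4 (nat_lit 0x8)
 (Net.cons 8 (nat_lit 0x18)
 Net.nil)))))))

noncomputable def MuH1_lb_n_7 : Net :=
 (Net.cons 8 (nat_lit 0xfe)
 (Net.cons 4 (nat_lit 0xc0e)
 (Net.cons 1 (nat_lit 0x5501)
 (Net.cons 2 (nat_lit 0x1230)
 (Net.cons 4 (nat_lit 0x30e)
 (Net.cons 8 (nat_lit 0xfe)
 Net.nil))))))

noncomputable def MuH1_lb_n_8 : Net :=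
 (Net.cons 8 (nat_lit 0x68)
 (Net.cons 4 (nat_lit 0xa)
 (Net.cons 2 (nat_lit 0x200)
 (Net.cons 1 (nat_lit 0x1110)
 (Net.cons 2 (nat_lit 0x203)
 (Net.cons 4 (nat_lit 0x40a)
 (Net.cons 8 (nat_lit 0x68)
 Net.nil)))))))

noncomputable def MuH1_lb_n_64 : Net :=
 (Net.cons 8 (nat_lit 0x30)
 (Net.cons 4 (nat_lit 0x406)
 (Net.cons 2 (nat_lit 0x20)
 (Net.cons 1 (nat_lit 0x114)
 (Net.cons 2 (nat_lit 0x1000)
 (Net.cons 4 (nat_lit 0x606)
 (Net.cons 8 (nat_lit 0x3c)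
 Net.nil)))))))

noncomputable def MuH1_lb_n_66 : Net :=
 (Net.cons 8 (nat_lit 0x60)
 (Net.cons 4 (nat_lit 0x400)
 (Net.cons 2 (nat_lit 0x22)
 (Net.cons 1 (nat_lit 0x414)
 (Net.cons 2 (nat_lit 0x1022)
 (Net.cons 4 (nat_lit 0x600)
 (Net.cons 8 (nat_lit 0x60)
 Net.nil)))))))

noncomputable def MuH1_lb_n_67 : Net :=
 (Net.cons 8 (nat_lit 0x80)
 (Net.cons 2 (nat_lit 0x2020)
 (Net.cons 1 (nat_lit 0x1544)
 (Net.cons 2 (nat_lit 0x2320)
 (Net.cons 4 (nat_lit 0x900)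
 (Net.cons 8 (nat_lit 0x80)
 Net.nil))))))

noncomputable def MuH1_lb_n : List Net := (apd [Net.nil,
 Net.nil,
 Net.nil,
 MuH1_lb_n_3,
 MuH1_lb_n_4,
 MuH1_lb_n_5,
 Net.nil,
 MuH1_lb_n_7,
 MuH1_lb_n_8,
 Net.nil,
 Net.nil,
 Net.nil,
 Net.nil,
 Net.nil,
 Net.nil,
 Net.nil,
 Net.nil,
 Net.nil,
 Net.nil,
 Net.nil,
 Net.nil,
 Net.nil,
 Net.nil,
 Net.nil,
 Net.nil,
 Net.nil,
 Net.nil,
 Net.nil,
 Net.nil,
 Net.nil,
 Net.nil,
 Net.nil,
 Net.nil,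
 Net.nil,
 Net.nil,
 Net.nil,
 Net.nil,
 Net.nil,
 Net.nil,
 Net.nil]
 [Net.nil,
 Net.nil,
 Net.nil,
 Net.nil,
 Net.nil,
 Net.nil,
 Net.nil,
 Net.nil,
 Net.nil,
 Net.nil,
 Net.nil,
 Net.nil,
 Net.nil,
 Net.nil,
 Net.nil,
 Net.nil,
 Net.nil,
 Net.nil,
 Net.nil,
 Net.nil,
 Net.nil,
 Net.nil,
 Net.nil,
 Net.nil,
 MuH1_lb_n_64,
 Net.rev MuH1_lb_n_64,
 MuH1_lb_n_66,
 MuH1_lb_n_67])

theorem MuH1_lb_n_ok : NetsOK 16 MuH1_lb_n := netsOK_of (by decide +kernel)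

theorem MuH1_lb : 336 ≤ Nat.card (cl (gp nets) [3,4,5,7,8]) :=
  lb_of_itwB (k := 4) (n := 14) nets_ok MuH1_lb_n_ok (by norm_num) (by norm_num) (tbA_pt nets_ok) (tbA_pt MuH1_lb_n_ok) (φ := look2 (nat_lit 0x1400011000070000b000130000e00012000050000f00009000040000a0001000003) 20 64) (by decide +kernel) (by
    rw [← cl_eq_of_slpB (k := 4) (D := [(64,[5,4,8,5]),
 (65,[5,8,4,5]),
 (66,[8,5,8,7]),
 (67,[4,66,65])]) MuH1_lb_n_ok (by norm_num) (by decide +kernel)]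
    exact lb_of_chainB MuH1_lb_n_ok (C := [([3,4,64,65,66,67],[5,7,3,8,4],0,0,14),
 ([67],[3,4,64,64],1,1,12),
 ([],[67],2,2,2)]) (by decide +kernel))

theorem Mu_mb : MB (cl (gp nets) L) 53130 1 :=
  mb_one (w := 40) (n := 36) (La := L) (ix := nth 0 [0,0,0,0,1,7,14,20,27]) (by norm_num) (by norm_num) (nets_iv.sval _) (nets_rel.sval fun r hr x hx => mem_cl (sub_of_allR (by decide +kernel) r hr x hx)) (by decide +kernel)
    (TStep.trans (TStep.trans (TStep.trans (TStep.trans (TStep.trans (TStep.trans (TStep.trans (TStep.trans (TStep.trans (TStep.trans (TStep.trans (TStep.trans (TStep.trans (TStep.trans (TStep.trans (TStep.repar (k' := 29) (by norm_num) (by norm_num) (by decide +kernel) (by decide +kernel) Mu1_b)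
    (TStep.enum0 (by norm_num) (by norm_num) Mu2_0 (Gs := Mu2G) (by decide +kernel)))
    (TStep.repar (k' := 28) (by norm_num) (by norm_num) (by decide +kernel) (by decide +kernel) Mu3_b))
    (TStep.enum0 (by norm_num) (by norm_num) Mu4_0 (Gs := Mu4G) (by decide +kernel)))
    (TStep.repar (k' := 21) (by norm_num) (by norm_num) (by decide +kernel) (by decide +kernel) Mu5_b))
    (TStep.enum0 (by norm_num) (by norm_num) Mu6_0 (Gs := Mu6G) (by decide +kernel)))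
    (TStep.repar (k' := 18) (by norm_num) (by norm_num) (by decide +kernel) (by decide +kernel) Mu7_b))
    (TStep.enum0 (by norm_num) (by norm_num) Mu8_0 (Gs := Mu8G) (by decide +kernel)))
    (TStep.repar (k' := 12) (by norm_num) (by norm_num) (by decide +kernel) (by decide +kernel) Mu9_b))
    (TStep.enum0 (by norm_num) (by norm_num) Mu10_0 (Gs := Mu10G) (by decide +kernel)))
    (TStep.repar (k' := 7) (by norm_num) (by norm_num) (by decide +kernel) (by decide +kernel) Mu11_b))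
    (TStep.enum (by norm_num) (by norm_num) Mu12_0 (I := [0,1,2,3,4,5,6,35]) (by decide +kernel) (by decide +kernel) MuH0_0_ord (c := 1) (lb_sval (fun _ hx => mem_cl (sub_of_subB (by decide +kernel) _ hx)) MuH0_lb (by norm_num)) (Gs := Mu12G) (by decide +kernel)))
    (TStep.repar (k' := 2) (by norm_num) (by norm_num) (by decide +kernel) (by decide +kernel) Mu13_b))
    (TStep.repar (k' := 2) (by norm_num) (by norm_num) (by decide +kernel) (by decide +kernel) Mu14_b))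
    (TStep.enum (by norm_num) (by norm_num) Mu15_0 (I := [0,1,3,7,8,11,12,20,21,22,23,27,29,31,32,33,34]) (by decide +kernel) (by decide +kernel) MuH1_0_ord (c := 1) (lb_sval (fun _ hx => mem_cl (sub_of_subB (by decide +kernel) _ hx)) MuH1_lb (by norm_num)) (Gs := Mu15G) (by decide +kernel)))
    (TStep.repar (k' := 0) (by norm_num) (by norm_num) (by decide +kernel) (by decide +kernel) Mu16_b))
    (L := [1,2,3,4,5,6,7,8]) (I := [0,1,2,3,4,5,6,7,8,9,10,11,12,13,14,15,16,17,18,19,20,21,22,23,24,25,26,27,28,29,30,31,32,33,34,35]) (by decide +kernel) (by decide +kernel) ord card.ge (cl_sval_top _ _)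

end Cfsg.Lib.Comp.M23x
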