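import Cfsg.Agent.Lib.Comp.M23x.Base

set_option maxRecDepth 100000
set_option Elab.async false

namespace Cfsg.Lib.Comp.M23x

universe u

noncomputable def MuH0_0_R : List (List ℕ × ℕ) := [([3],1),
 ([4],1),
 ([1],2),
 ([3,4],1),
 ([1,3],2),
 ([1,4],2),
 ([1,4,2,3],1),
 ([1,2],0)]

noncomputable def MuH0_0_n_1 : Net :=
 (Net.cons 2 (nat_lit 0x2)
 (Net.cons 1 (nat_lit 0x4)
 Net.nil))

noncomputable def MuH0_0_n_4 : Net :=
 (Net.cons 1 (nat_lit 0x5)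
 Net.nil)

noncomputable def MuH0_0_n : List Net := [Net.nil,
 MuH0_0_n_1,
 Net.rev MuH0_0_n_1,
 Net.nil,
 MuH0_0_n_4]

theorem MuH0_0_n_ok : NetsOK 4 MuH0_0_n := netsOK_of (by decide +kernel)

theorem MuH0_0_n_rel : Rels (gp MuH0_0_n) MuH0_0_R := rels_of_relsB (k := 2) MuH0_0_n_ok (by norm_num) (by decide +kernel)

theorem MuH0_0_fin : finB 4 MuH0_0_n [1,2,3,4] 4 (runH 4 MuH0_0_n (fun x p => ptInv (nth Net.nil MuH0_0_n x) p) iv MuH0_0_R [] ([1,2,3].map fun x => [x]) 0 []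
  [1,5,9,4,12,28,8,20,24,28,4,12]
  (defsH 4 MuH0_0_n (ones 36) [4,1,2] (Nat.shiftLeft 1 0) 0)) = true := by decide +kernel

theorem MuH0_0_idx : Idx.{u} iv (MuH0_0_R ++ []) ([1,2,3].map fun x => [x]) [1,2,3,4] 4 :=
  Reach.idx MuH0_0_n_ok (reach_runH MuH0_0_n_ok (fun x p _ => ptInv_gp MuH0_0_n_ok x p) MuH0_0_n_rel (reach_defsH MuH0_0_n_ok _ _ _ _ _ _) _ _) MuH0_0_fin (by norm_num)

end Cfsg.Lib.Comp.M23x
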