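import Cfsg.Agent.Lib.Comp.M23x.Base

set_option maxRecDepth 100000
set_option Elab.async false

namespace Cfsg.Lib.Comp.M23x

universe u

noncomputable def nets_1 : Net :=
 (Net.cons 12 (nat_lit 0x918)
 (Net.cons 6 (nat_lit 0x38006)
 (Net.cons 3 (nat_lit 0x80)
 (Net.cons 1 (nat_lit 0x8048)
 (Net.cons 1 (nat_lit 0x490012)
 (Net.cons 1 (nat_lit 0x40000)
 (Net.cons 3 (nat_lit 0x60c2)
 (Net.cons 6 (nat_lit 0xc01e)
 (Net.cons 12 (nat_lit 0xcb8)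
 Net.nil)))))))))

noncomputable def nets_3 : Net :=
 (Net.cons 12 (nat_lit 0xd58)
 (Net.cons 6 (nat_lit 0x10020)
 (Net.cons 3 (nat_lit 0x80000)
 (Net.cons 1 (nat_lit 0x1248)
 (Net.cons 1 (nat_lit 0x82400)
 (Net.cons 1 (nat_lit 0x40200)
 (Net.cons 3 (nat_lit 0x2000)
 (Net.cons 6 (nat_lit 0x27020)
 (Net.cons 12 (nat_lit 0xd58)
 Net.nil)))))))))

noncomputable def nets_4 : Net :=
 (Net.cons 12 (nat_lit 0xfe0)
 (Net.cons 6 (nat_lit 0x18000)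
 (Net.cons 3 (nat_lit 0x102000)
 (Net.cons 1 (nat_lit 0x200040)
 (Net.cons 1 (nat_lit 0x410010)
 (Net.cons 1 (nat_lit 0x8000)
 (Net.cons 3 (nat_lit 0x84000)
 (Net.cons 6 (nat_lit 0x27000)
 (Net.cons 12 (nat_lit 0xfe0)
 Net.nil)))))))))

noncomputable def nets_5 : Net :=
 (Net.cons 12 (nat_lit 0x190)
 (Net.cons 6 (nat_lit 0x28000)
 (Net.cons 3 (nat_lit 0x84000)
 (Net.cons 1 (nat_lit 0x40208)
 (Net.cons 1 (nat_lit 0x410480)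
 (Net.cons 1 (nat_lit 0x40)
 (Net.cons 3 (nat_lit 0x851c0)
 (Net.cons 6 (nat_lit 0x28000)
 (Net.cons 12 (nat_lit 0x5d0)
 Net.nil)))))))))

noncomputable def nets_6 : Net :=
 (Net.cons 12 (nat_lit 0x798)
 (Net.cons 6 (nat_lit 0x22008)
 (Net.cons 3 (nat_lit 0x4104)
 (Net.cons 1 (nat_lit 0x241008)
 (Net.cons 1 (nat_lit 0x490410)
 (Net.cons 1 (nat_lit 0x240200)
 (Net.cons 3 (nat_lit 0x4104)
 (Net.cons 6 (nat_lit 0x22034)
 (Net.cons 12 (nat_lit 0x798)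
 Net.nil)))))))))

noncomputable def nets_7 : Net :=
 (Net.cons 12 (nat_lit 0x530)
 (Net.cons 6 (nat_lit 0x8)
 (Net.cons 3 (nat_lit 0x82100)
 (Net.cons 1 (nat_lit 0x48208)
 (Net.cons 1 (nat_lit 0x12402)
 (Net.cons 1 (nat_lit 0x8200)
 (Net.cons 3 (nat_lit 0x82100)
 (Net.cons 6 (nat_lit 0x28)
 (Net.cons 12 (nat_lit 0x5b0)
 Net.nil)))))))))

noncomputable def nets_8 : Net :=
 (Net.cons 12 (nat_lit 0x204)
 (Net.cons 6 (nat_lit 0x10018)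
 (Net.cons 3 (nat_lit 0x104)
 (Net.cons 1 (nat_lit 0x248008)
 (Net.cons 1 (nat_lit 0x90410)
 (Net.cons 1 (nat_lit 0x48200)
 (Net.cons 3 (nat_lit 0x104)
 (Net.cons 6 (nat_lit 0x10025)
 (Net.cons 12 (nat_lit 0x204)
 Net.nil)))))))))

noncomputable def nets_64 : Net :=
 (Net.cons 12 (nat_lit 0x800)
 (Net.cons 6 (nat_lit 0x20)
 (Net.cons 3 (nat_lit 0x104000)
 (Net.cons 1 (nat_lit 0x41000)
 (Net.cons 1 (nat_lit 0x492480)
 (Net.cons 1 (nat_lit 0x208240)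
 (Net.cons 3 (nat_lit 0x104140)
 (Net.cons 6 (nat_lit 0x22020)
 (Net.cons 12 (nat_lit 0x800)
 Net.nil)))))))))

noncomputable def nets : List Net := (apd [Net.nil,
 nets_1,
 Net.rev nets_1,
 nets_3,
 nets_4,
 nets_5,
 nets_6,
 nets_7,
 nets_8,
 Net.nil,
 Net.nil,
 Net.nil,
 Net.nil,
 Net.nil,
 Net.nil,
 Net.nil,
 Net.nil,
 Net.nil,
 Net.nil,
 Net.nil,
 Net.nil,
 Net.nil,
 Net.nil,
 Net.nil,
 Net.nil,
 Net.nil,
 Net.nil,
 Net.nil,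
 Net.nil,
 Net.nil,
 Net.nil,
 Net.nil,
 Net.nil,
 Net.nil,
 Net.nil,
 Net.nil,
 Net.nil,
 Net.nil,
 Net.nil,
 Net.nil]
 [Net.nil,
 Net.nil,
 Net.nil,
 Net.nil,
 Net.nil,
 Net.nil,
 Net.nil,
 Net.nil,
 Net.nil,
 Net.nil,
 Net.nil,
 Net.nil,
 Net.nil,
 Net.nil,
 Net.nil,
 Net.nil,
 Net.nil,
 Net.nil,
 Net.nil,
 Net.nil,
 Net.nil,
 Net.nil,
 Net.nil,
 Net.nil,
 nets_64,
 Net.rev nets_64])

theorem nets_ok : NetsOK 24 nets := netsOK_of (by decide +kernel)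

theorem nets_rel : Rels (gp nets) R := rels_of_relsB (k := 5) nets_ok (by norm_num) (by decide +kernel)

theorem nets_iv : IvOK (gp nets) iv := ivOK_of_ivB (k := 5) nets_ok (by norm_num) (by decide +kernel)

noncomputable def slp : List (ℕ × List ℕ) := [(64,[4,3,2]),
 (65,[1,3,4])]

theorem slp_ok : slpB 24 5 nets slp L = true := by decide +kernel

theorem mem_all {x : ℕ} (h : x ∈ L ++ slp.map (·.1)) : gp nets x ∈ cl (gp nets) L :=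
  cl_eq_of_slpB nets_ok (by norm_num) slp_ok ▸ mem_cl h

theorem lb : 10200960 ≤ Nat.card (cl (gp nets) L) := by
  rw [← cl_eq_of_slpB nets_ok (by norm_num) slp_ok]
  exact lb_of_chainB nets_ok (C := [([1,2,3,4,5,6,7,64,65],[8,1,3,4,1,5,6,7],0,0,23),
 ([1,2,3,4,5,6,64,65],[7,6,1,5,64,4,1,5],1,1,22),
 ([1,2,3,4,5,64,65],[6,1,5,64,4,1,5],2,2,21),
 ([1,2,3,4,64,65],[5,1,3,4,1,5],3,3,20),
 ([64,65],[1,3,4,1,1],4,4,16),
 ([],[64,64],20,20,3)]) (by decide +kernel)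

end Cfsg.Lib.Comp.M23x
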